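import Cfsg.Agent.Lib.TwoRank.Basic

/-!
# Reduction to a Sylow subgroup and basic facts on four-groups with small centralisers
-/

set_option autoImplicit false
set_option linter.unusedSectionVars false
set_option linter.style.haveILetI false

namespace CfsgLib.TwoRank.FourCent

variable {G : Type*} [Group G] [Finite G]

/-- The sectional rank is that of a Sylow subgroup. -/
theorem sectional_of_sylow {p k : ℕ} [Fact p.Prime] (S : Sylow p G)
    (h : Cfsg.SectionalPRankLE p k (S : Subgroup G)) : Cfsg.SectionalPRankLE p k G := by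
  intro H N _ A hAc hAp
  haveI : IsMulCommutative A := hAc
  -- a Sylow subgroup of the preimage
  let X : Subgroup H := A.comap (QuotientGroup.mk' N)
  obtain ⟨P⟩ : Nonempty (Sylow p X) := inferInstance
  let f : X →* H ⧸ N := (QuotientGroup.mk' N).comp X.subtype
  have hPA : ∀ a ∈ A, ∃ x : P.1, f x.1 = a := by
    -- the image of the Sylow subgroup has index prime to p in the p-group A
    have hfr : f.range = A := by
      ext a
      constructor
      · rintro ⟨x, rfl⟩; exact x.2
      · intro ha
        obtain ⟨y, rfl⟩ := QuotientGroup.mk'_surjective N a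
        exact ⟨⟨y, ha⟩, rfl⟩
    have hmap : (P.1).map f = A := by
      have hle : (P.1).map f ≤ A := by
        rintro _ ⟨x, -, rfl⟩; exact x.2
      refine le_antisymm hle ?_
      have hAP : IsPGroup p A := fun a => ⟨1, Subtype.ext (by
        rw [SubgroupClass.coe_pow, pow_one]; exact hAp _ a.2)⟩
      obtain ⟨n, hn⟩ := hAP.index (((P.1).map f).subgroupOf A)
      have hndvd : ¬ p ∣ (((P.1).map f).subgroupOf A).index := by
        intro hd
        have h1 : (((P.1).map f).subgroupOf A).index ∣ (P.1).index := by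
          have e : ((P.1).map f).relIndex f.range ∣ (P.1).index := by
            rw [MonoidHom.range_eq_map, Subgroup.relIndex_map_map, top_sup_eq,
              Subgroup.relIndex_top_right]
            exact Subgroup.index_dvd_of_le le_sup_left
          rw [hfr] at e
          exact e
        exact P.not_dvd_index (hd.trans h1)
      rcases n with _ | n
      · rw [pow_zero] at hn
        exact Subgroup.subgroupOf_eq_top.mp (Subgroup.index_eq_one.mp hn)
      · exact absurd (hn ▸ dvd_pow_self p n.succ_ne_zero) hndvd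
    intro a ha
    obtain ⟨x, hx, rfl⟩ := hmap.ge ha
    exact ⟨⟨x, hx⟩, rfl⟩
  -- move it into S
  let P' : Subgroup G := (P.1.map X.subtype).map H.subtype
  have hP' : IsPGroup p P' := (P.2.map _).map _
  obtain ⟨S', hS'⟩ := hP'.exists_le_sylow
  obtain ⟨g, hg⟩ := MulAction.exists_smul_eq G S S'
  let e : (S : Subgroup G) ≃* (S' : Subgroup G) := S.equiv S'
  let H₁ : Subgroup (S : Subgroup G) := (P'.subgroupOf (S' : Subgroup G)).comap e.toMonoidHom
  have hH1 : ∀ z : H₁, ∃ hz : ((e z.1 : (S' : Subgroup G)) : G) ∈ H, (⟨_, hz⟩ : H) ∈ X := by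
    rintro ⟨z, hz⟩
    obtain ⟨y, hy, hyz⟩ : ((e z : (S' : Subgroup G)) : G) ∈ P' := hz
    obtain ⟨x, -, rfl⟩ := hy
    have hz' : ((e z : (S' : Subgroup G)) : G) ∈ H := hyz ▸ x.1.2
    exact ⟨hz', by
      have : (⟨_, hz'⟩ : H) = (x : H) := Subtype.ext hyz.symm
      rw [this]; exact x.2⟩
  let ψ : H₁ →* H ⧸ N :=
    { toFun := fun z => QuotientGroup.mk' N ⟨_, (hH1 z).1⟩
      map_one' := by
        rw [← map_one (QuotientGroup.mk' N)]
        congr 1
        apply Subtype.ext
        simp
      map_mul' := fun a b => by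
        rw [← map_mul]
        congr 1
        apply Subtype.ext
        simp }
  have hψr : ψ.range = A := by
    ext a
    constructor
    · rintro ⟨z, rfl⟩
      exact (hH1 z).2
    · intro ha
      obtain ⟨x, rfl⟩ := hPA a ha
      have hxP' : ((x.1 : H) : G) ∈ P' := ⟨_, ⟨x.1, x.2, rfl⟩, rfl⟩
      refine ⟨⟨e.symm ⟨_, hS' hxP'⟩, ?_⟩, ?_⟩
      · show ((e (e.symm ⟨_, hS' hxP'⟩) : (S' : Subgroup G)) : G) ∈ P'
        rw [MulEquiv.apply_symm_apply]; exact hxP'
      · show QuotientGroup.mk' N ⟨_, _⟩ = f x.1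
        exact congrArg (QuotientGroup.mk' N) (Subtype.ext (by
          show ((e (e.symm ⟨_, hS' hxP'⟩) : (S' : Subgroup G)) : G) = _
          rw [MulEquiv.apply_symm_apply]
          rfl))
  have hiso := QuotientGroup.quotientKerEquivRange ψ
  have h1 := h H₁ ψ.ker ⊤
    ⟨⟨fun a b => Subtype.ext (hiso.injective (Subtype.ext (by
      rw [Subgroup.coe_mul, Subgroup.coe_mul, map_mul, map_mul, Subgroup.coe_mul, Subgroup.coe_mul]
      exact congrArg Subtype.val (hAc.is_comm.comm (⟨_, hψr.le (hiso a.1).2⟩ : A)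
        ⟨_, hψr.le (hiso b.1).2⟩))))⟩⟩
    (fun a _ => hiso.injective (Subtype.ext (by
      rw [map_pow, map_one, SubgroupClass.coe_pow]
      exact hAp _ (hψr.le (hiso a).2))))
  rw [Subgroup.card_top, Nat.card_congr hiso.toEquiv, hψr] at h1
  exact h1

end CfsgLib.TwoRank.FourCent
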