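import Cfsg.Agent.Lib.TwoRank.FourCent.Small

/-!
# The normaliser of `T` is large: structure of the group and the bound
-/

set_option autoImplicit false
set_option linter.unusedSectionVars false
set_option linter.unusedVariables false
set_option linter.style.haveILetI false

namespace CfsgLib.TwoRank.FourCent

variable {P : Type*} [Group P] [Finite P]

/-- The conjugate of a subgroup. -/
abbrev conjT (g : P) (T : Subgroup P) : Subgroup P := T.map (MulAut.conj g).toMonoidHom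

theorem mem_conjT {g x : P} {T : Subgroup P} : x ∈ conjT g T ↔ ∃ t ∈ T, g * t * g⁻¹ = x :=
  Subgroup.mem_map

theorem card_conjT (g : P) (T : Subgroup P) : Nat.card (conjT g T) = Nat.card T :=
  Subgroup.card_map_of_injective (MulAut.conj g).injective

theorem arith_inside {i x y k l l' : ℕ} (hi : i ≤ 4) (b1 : x ≤ 4 * 2 ^ i) (eK : y = l * l')
    (h2 : y ≤ k) (hl : 0 < l) (hl' : 0 < l') (h3 : 3 ≤ i → 2 ≤ l) (h4 : i = 4 → l = 4) :
    x ≤ 16 * k := by
  interval_cases i <;> norm_num at b1 h3 h4 <;> nlinarith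

theorem arith_outside {i x x0 y k l l' : ℕ} (hi : i ≤ 4) (hx : x ≤ 2 * x0) (b1 : x0 ≤ 4 * 2 ^ i)
    (eK : y = l * l') (h2 : y ≤ k) (hl : 0 < l) (hl' : 0 < l') (h22 : 2 ≤ i → 2 ≤ l)
    (h3 : 3 ≤ i → 2 ≤ l') (h4 : i = 4 → l = 4) : x ≤ 16 * k := by
  interval_cases i <;> norm_num at b1 h22 h3 h4 <;> nlinarith

namespace Full

variable {T B : Subgroup P} {w g₁ : P} (h : Full T B w g₁)
include h

local notation "F" => Fx T w
local notation "R" => stabF T w

theorem exists_b : ∃ b ∈ B, b ≠ 1 ∧ b ∈ T ∧ ∀ x : P, Commute x b → x ∈ T := by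
  obtain ⟨b, hb, hne⟩ : ∃ b ∈ B, b ≠ 1 := by
    by_contra hh
    simp only [not_exists, not_and, not_not] at hh
    have : B = ⊥ := (Subgroup.eq_bot_iff_forall B).mpr hh
    have := h.card
    simp_all
  exact ⟨b, hb, hne, h.le hb, h.cent b hb hne⟩

theorem F_le : (F : Subgroup P) ≤ R := fun f hf => h.toCtx.T_le (mem_Fx.mp hf).1

theorem F_comm {g f : P} (hg : g ∈ R) (hf : f ∈ F) : Commute g f :=
  (Subgroup.mem_centralizer_iff.mp hg.2 f hf).symm

theorem sqLE : SqLE R F := by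
  refine ⟨h.F_le, fun g hg => ?_⟩
  by_cases hgT : g ∈ T
  · rw [h.tsq g hgT]; exact (Fx T w).one_mem
  · have hg2 := h.toCtx.sq_mem hg
    rw [← h.toCtx.Fx_eq hg hgT hg2]
    exact mem_Fx.mpr ⟨hg2, (Commute.refl g).mul_left (Commute.refl g)⟩

theorem relIndex_le {A : Subgroup P} (hA : A ≤ R) : Nat.card A ≤ 4 * Nat.card (A ⊓ T : Subgroup P) := by
  have hi : T.relIndex A ≤ 4 := by
    refine (Subgroup.relIndex_le_of_le_right hA ?_).trans ?_
    · exact Subgroup.index_ne_zero_of_finite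
    · let φ : Fin 4 → (R : Subgroup P) := ![1, ⟨w, h.toCtx.w_mem⟩, ⟨g₁, h.g₁_mem⟩,
        ⟨w * g₁, (R).mul_mem h.toCtx.w_mem h.g₁_mem⟩]
      have hsur : Function.Surjective
          (fun i => (QuotientGroup.mk (φ i) : (R : Subgroup P) ⧸ T.subgroupOf R)) := by
        intro q
        obtain ⟨g, rfl⟩ := QuotientGroup.mk_surjective q
        rcases h.toCtx.pair_gen h.toCtx.w_mem h.g₁_mem h.invo.2.1 h.g₁_not h.indep g.2 with
          e | e | e | e
        · exact ⟨0, QuotientGroup.eq.mpr (Subgroup.mem_subgroupOf.mpr (by simpa [φ] using e))⟩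
        · exact ⟨1, QuotientGroup.eq.mpr (Subgroup.mem_subgroupOf.mpr (by simpa [φ] using e))⟩
        · exact ⟨2, QuotientGroup.eq.mpr (Subgroup.mem_subgroupOf.mpr (by simpa [φ] using e))⟩
        · exact ⟨3, QuotientGroup.eq.mpr (Subgroup.mem_subgroupOf.mpr (by simpa [φ] using e))⟩
      have := Nat.card_le_card_of_surjective _ hsur
      simpa [Subgroup.relIndex, Subgroup.index_eq_card] using this
  have e := (T.subgroupOf A).card_mul_index
  rw [← Subgroup.inf_subgroupOf_left,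
    Nat.card_congr (Subgroup.subgroupOfEquivOfLe (inf_le_left : A ⊓ T ≤ A)).toEquiv,
    Subgroup.inf_subgroupOf_left] at e
  calc Nat.card A = Nat.card (A ⊓ T : Subgroup P) * T.relIndex A := e.symm
    _ ≤ Nat.card (A ⊓ T : Subgroup P) * 4 := Nat.mul_le_mul_left _ hi
    _ = _ := mul_comm _ _

theorem cardR_le : Nat.card (R : Subgroup P) ≤ 64 := by
  have h1 := h.relIndex_le le_rfl
  have h2 := Subgroup.card_le_of_le (inf_le_right : (R : Subgroup P) ⊓ T ≤ T)
  rw [h.card16] at h2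
  omega

/-- Subgroups of exponent two of `R`. -/
theorem elem_small {A : Subgroup P} (hA : A ≤ R) (hsq : ∀ a ∈ A, a * a = 1) :
    A ≤ T ∨ (A ⊓ T ≤ F ∧ Nat.card A ≤ 16) := by
  by_cases hex : A ⊓ T ≤ F
  · right
    refine ⟨hex, ?_⟩
    have h1 := h.relIndex_le hA
    have h2 := Subgroup.card_le_of_le hex
    rw [h.toCtx.F_card] at h2
    omega
  · left
    obtain ⟨t, ⟨htA, htT⟩, htF⟩ := SetLike.not_le_iff_exists.mp hex
    intro a ha
    refine h.cent_out htT htF ?_
    show a * t = t * a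
    have e1 := hsq _ (A.mul_mem ha htA)
    calc a * t = a * t * (a * t * (a * t))⁻¹ := by rw [e1]; group
      _ = t⁻¹ * a⁻¹ := by group
      _ = t * a := by
          rw [inv_eq_iff_mul_eq_one.mpr (hsq t htA), inv_eq_iff_mul_eq_one.mpr (hsq a ha)]

/-- An elementary subgroup of order sixteen different from `T` contains all outer involutions. -/
theorem invol_mem {E : Subgroup P} (hE : E ≤ R) (hsq : ∀ a ∈ E, a * a = 1)
    (h16 : Nat.card E = 16) (hne : E ≠ T) :
    (F : Subgroup P) ≤ E ∧ E ⊓ T ≤ F ∧ ∀ x ∈ R, x ∉ T → x * x = 1 → x ∈ E := by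
  have hinf : E ⊓ T ≤ F := by
    rcases h.elem_small hE hsq with e | ⟨e, -⟩
    · exact absurd (Subgroup.eq_of_le_of_card_ge e (by rw [h.card16, h16])) hne
    · exact e
  have heq : E ⊓ T = F := by
    refine Subgroup.eq_of_le_of_card_ge hinf ?_
    have h1 := h.relIndex_le hE
    rw [h.toCtx.F_card]
    omega
  have hFE : (F : Subgroup P) ≤ E := heq ▸ inf_le_left
  refine ⟨hFE, hinf, fun x hx hxT hxx => ?_⟩
  obtain ⟨b, hb, hne', hbT, hC⟩ := h.exists_b
  let ψ : E →* (F : Subgroup P) :=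
    { toFun := fun e => ⟨dl (e : P) b, h.toCtx.dl_mem (hE e.2) hbT⟩
      map_one' := Subtype.ext (by simp [dl, h.tsq b hbT])
      map_mul' := fun e e' => Subtype.ext (h.toCtx.dl_comp (hE e.2) (hE e'.2) hbT) }
  have hker : Nat.card ψ.ker ≤ 4 := by
    rw [← h.toCtx.F_card]
    refine Nat.card_le_card_of_injective (fun e : ψ.ker => (⟨((e : E) : P), hinf ⟨e.1.2, ?_⟩⟩ :
      (F : Subgroup P))) fun a b e => Subtype.ext (Subtype.ext
        (congrArg (fun f : (F : Subgroup P) => (f : P)) e))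
    have e0 : dl (e.1 : P) b = dl (1 : P) b := by
      rw [show dl (e.1 : P) b = 1 from congrArg Subtype.val e.2]
      simp [dl, h.tsq b hbT]
    have := h.toCtx.dl_inj hbT hC e0.symm
    simpa using this
  have hsur : Function.Surjective ψ := by
    rw [← MonoidHom.range_eq_top]
    refine Subgroup.eq_top_of_card_eq _ (le_antisymm (Subgroup.card_le_card_group _) ?_)
    have e := ψ.ker.card_mul_index
    rw [Subgroup.index_ker, h16] at e
    rw [h.toCtx.F_card]
    nlinarith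
  obtain ⟨e, he⟩ := hsur ⟨dl x b, h.toCtx.dl_mem hx hbT⟩
  have ht := h.toCtx.dl_inj hbT hC (congrArg Subtype.val he)
  set t := (e : P)⁻¹ * x with ht_def
  have hx' : x = e * t := by rw [ht_def]; group
  have heT : (e : P) ∉ T := fun he' => hxT (hx' ▸ T.mul_mem he' ht)
  have hcom : Commute t (e : P) := by
    rw [hx'] at hxx
    show t * e = e * t
    calc t * (e : P) = (e : P)⁻¹ * ((e : P) * t * (e * t)) * t⁻¹ := by group
      _ = (e : P)⁻¹ * t⁻¹ := by rw [hxx, mul_one]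
      _ = e * t := by
          rw [inv_eq_iff_mul_eq_one.mpr (hsq e e.2), inv_eq_iff_mul_eq_one.mpr (h.tsq t ht)]
  have htF : t ∈ F := by
    rw [← h.toCtx.Fx_eq (hE e.2) heT (by rw [hsq e e.2]; exact T.one_mem)]
    exact mem_Fx.mpr ⟨ht, hcom⟩
  rw [hx']
  exact E.mul_mem e.2 (hFE htF)

theorem unique_other {E E' : Subgroup P} (hE : E ≤ R) (hsq : ∀ a ∈ E, a * a = 1)
    (h16 : Nat.card E = 16) (hne : E ≠ T) (hE' : E' ≤ R) (hsq' : ∀ a ∈ E', a * a = 1)
    (h16' : Nat.card E' = 16) (hne' : E' ≠ T) : E' = E := by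
  obtain ⟨hF, -, hmem⟩ := h.invol_mem hE hsq h16 hne
  refine Subgroup.eq_of_le_of_card_ge (fun x hx => ?_) (by rw [h16, h16'])
  by_cases hxT : x ∈ T
  · exact hF ((h.invol_mem hE' hsq' h16' hne').2.1 ⟨hx, hxT⟩)
  · exact hmem x (hE' hx) hxT (hsq' x hx)

theorem conjT_props (g : P) : (∀ a ∈ conjT g T, a * a = 1) ∧ Nat.card (conjT g T) = 16 := by
  refine ⟨?_, by rw [card_conjT, h.card16]⟩
  intro a ha
  obtain ⟨t, ht, rfl⟩ := mem_conjT.mp ha
  rw [show g * t * g⁻¹ * (g * t * g⁻¹) = g * (t * t) * g⁻¹ by group, h.tsq t ht]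
  group

theorem conjT_le {g : P} (hg : g ∈ Subgroup.normalizer (R : Set P)) : conjT g T ≤ R := by
  intro x hx
  obtain ⟨t, ht, rfl⟩ := mem_conjT.mp hx
  exact (Subgroup.mem_normalizer_iff.mp hg t).mp (h.toCtx.T_le ht)

theorem mem_R_of_conjT_eq {g : P} (e : conjT g T = T) : g ∈ R :=
  h.normalizer_eq (mem_normalizer_of_conj fun t ht => e.le (mem_conjT.mpr ⟨t, ht, rfl⟩))

theorem conjF {g : P} (hg : g ∈ Subgroup.normalizer (R : Set P)) {f : P} (hf : f ∈ F) :
    g * f * g⁻¹ ∈ F := by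
  have hm : g * f * g⁻¹ ∈ R := (Subgroup.mem_normalizer_iff.mp hg f).mp (h.F_le hf)
  have hc : ∀ x ∈ R, Commute x (g * f * g⁻¹) := by
    intro x hx
    have hx' : g⁻¹ * x * g ∈ R := (Subgroup.mem_normalizer_iff''.mp hg x).mp hx
    have e := (h.F_comm hx' hf).eq
    show x * (g * f * g⁻¹) = g * f * g⁻¹ * x
    calc x * (g * f * g⁻¹) = g * ((g⁻¹ * x * g) * f) * g⁻¹ := by group
      _ = _ := by rw [e]; group
  exact mem_Fx.mpr ⟨h.toData16.selfCent fun t ht => (hc t (h.toCtx.T_le ht)).symm,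
    (hc w h.toCtx.w_mem).symm⟩

theorem mul_mem_R {q r : P} (hq : q ∈ Subgroup.normalizer (R : Set P))
    (hr : r ∈ Subgroup.normalizer (R : Set P)) (hqR : q ∉ R) (hrR : r ∉ R) : q * r ∈ R := by
  have hq' := Subgroup.inv_mem _ hq
  obtain ⟨p1, c1⟩ := h.conjT_props q⁻¹
  obtain ⟨p2, c2⟩ := h.conjT_props r
  have n1 : conjT q⁻¹ T ≠ T := fun e => hqR ((R).inv_mem_iff.mp (h.mem_R_of_conjT_eq e))
  have n2 : conjT r T ≠ T := fun e => hrR (h.mem_R_of_conjT_eq e)
  have e := h.unique_other (h.conjT_le hq') p1 c1 n1 (h.conjT_le hr) p2 c2 n2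
  refine h.mem_R_of_conjT_eq ?_
  refine Subgroup.eq_of_le_of_card_ge (fun x hx => ?_) (by rw [card_conjT])
  obtain ⟨t, ht, rfl⟩ := mem_conjT.mp hx
  obtain ⟨t', ht', e'⟩ := mem_conjT.mp (e.le (mem_conjT.mpr ⟨t, ht, rfl⟩))
  have : q * r * t * (q * r)⁻¹ = t' := by
    calc q * r * t * (q * r)⁻¹ = q * (r * t * r⁻¹) * q⁻¹ := by group
      _ = _ := by rw [← e']; group
  rwa [this]

/-- `R` is normal, of index at most two. -/
theorem normalizer_R_eq_top : Subgroup.normalizer (R : Set P) = ⊤ := by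
  haveI : Fact (Nat.Prime 2) := ⟨Nat.prime_two⟩
  have := h.two.isNilpotent
  set M := Subgroup.normalizer (R : Set P) with hM
  have hRM : (R : Subgroup P) ≤ M := Subgroup.le_normalizer
  by_cases hMR : M ≤ R
  · by_contra hne
    have hlt : (R : Subgroup P) < ⊤ := lt_top_iff_ne_top.mpr fun e => hne (top_le_iff.mp (e ▸ hRM))
    exact (Group.normalizerCondition_of_isNilpotent _ hlt).not_ge hMR
  obtain ⟨r, hr, hrR⟩ := SetLike.not_le_iff_exists.mp hMR
  by_contra hne
  obtain ⟨g, hg, hgM⟩ := SetLike.exists_of_lt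
    (Group.normalizerCondition_of_isNilpotent M (lt_top_iff_ne_top.mpr hne))
  apply hgM
  obtain ⟨pg, cg⟩ := h.conjT_props g
  have hle : conjT g T ≤ M := fun x hx => by
    obtain ⟨t, ht, rfl⟩ := mem_conjT.mp hx
    exact (Subgroup.mem_normalizer_iff.mp hg t).mp (hRM (h.toCtx.T_le ht))
  have h8 : 8 ≤ Nat.card (conjT g T ⊓ R : Subgroup P) := by
    have := CfsgLib.TwoRank.card_le_two_mul_of_mul_mem (conjT g T) (conjT g T ⊓ R)
      fun q hq hqA s hs hsA => ⟨Subgroup.mul_mem _ hq hs,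
        h.mul_mem_R (hle hq) (hle hs) (fun e => hqA ⟨hq, e⟩) (fun e => hsA ⟨hs, e⟩)⟩
    rw [cg] at this
    omega
  obtain ⟨x, hx, hxF⟩ : ∃ x ∈ conjT g T ⊓ R, x ∉ F := by
    by_contra hh
    simp only [not_exists, not_and, not_not] at hh
    have := Subgroup.card_le_of_le hh
    rw [h.toCtx.F_card] at this
    omega
  have hcomm : ∀ y ∈ conjT g T, Commute y x := by
    intro y hy
    obtain ⟨s, hs, rfl⟩ := mem_conjT.mp hy
    obtain ⟨t, ht, rfl⟩ := mem_conjT.mp hx.1
    show g * s * g⁻¹ * (g * t * g⁻¹) = g * t * g⁻¹ * (g * s * g⁻¹)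
    calc g * s * g⁻¹ * (g * t * g⁻¹) = g * (s * t) * g⁻¹ := by group
      _ = _ := by rw [(h.tcomm s hs t ht).eq]; group
  by_cases hxT : x ∈ T
  · exact hRM (h.mem_R_of_conjT_eq (Subgroup.eq_of_le_of_card_ge
      (fun y hy => h.cent_out hxT hxF (hcomm y hy)) (by rw [card_conjT])))
  · obtain ⟨pr, cr⟩ := h.conjT_props r
    have nr : conjT r T ≠ T := fun e => hrR (h.mem_R_of_conjT_eq e)
    obtain ⟨t, ht, rfl⟩ := mem_conjT.mp
      ((h.invol_mem (h.conjT_le hr) pr cr nr).2.2 x hx.2 hxT (pg x hx.1))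
    have htF : t ∉ F := fun e => hxF (h.conjF hr e)
    have e : conjT g T = conjT r T := by
      refine Subgroup.eq_of_le_of_card_ge (fun y hy => ?_) (by rw [cg, cr])
      refine mem_conjT.mpr ⟨r⁻¹ * y * r, h.cent_out ht htF ?_, by group⟩
      show r⁻¹ * y * r * t = t * (r⁻¹ * y * r)
      have e' := (hcomm y hy).eq
      calc r⁻¹ * y * r * t = r⁻¹ * (y * (r * t * r⁻¹)) * r := by group
        _ = _ := by rw [e']; group
    have hmem : r⁻¹ * g ∈ R := h.mem_R_of_conjT_eq (by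
      refine Subgroup.eq_of_le_of_card_ge (fun y hy => ?_) (by rw [card_conjT])
      obtain ⟨s, hs, rfl⟩ := mem_conjT.mp hy
      obtain ⟨s', hs', e'⟩ := mem_conjT.mp (e.le (mem_conjT.mpr ⟨s, hs, rfl⟩))
      have : r⁻¹ * g * s * (r⁻¹ * g)⁻¹ = s' := by
        calc r⁻¹ * g * s * (r⁻¹ * g)⁻¹ = r⁻¹ * (g * s * g⁻¹) * r := by group
          _ = _ := by rw [← e']; group
      rwa [this])
    have := M.mul_mem hr (hRM hmem)
    rwa [mul_inv_cancel_left] at this

/-- Bounds inside `R`. -/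
theorem inside {Q : Type*} [Group Q] {f : P →* Q} (X L : Subgroup P) (hn : (F : Subgroup P).Normal)
    (hf : f.ker = F) (hX : X ≤ R) (hXL : SqLE X L) :
    Nat.card X ≤ 4 * Nat.card (X.map f) ∧ Nat.card (X.map f) ≤ 16 ∧
      ((∀ x ∈ X, x * x = 1) → Nat.card (X.map f) ≤ 4) ∧
      ((∃ x ∈ X, x * x ≠ 1) → 2 ≤ Nat.card (L ⊓ F : Subgroup P)) ∧
      (16 ≤ Nat.card (X.map f) → Nat.card (L ⊓ F : Subgroup P) = 4) := by
  haveI := hn
  have hsup : ∀ Y : Subgroup P, Y ≤ R →
      Nat.card (Y ⊔ (F : Subgroup P) : Subgroup P) = 4 * Nat.card (Y.map f) := by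
    intro Y hY
    rw [card_split f, hf, inf_eq_right.mpr le_sup_right, h.toCtx.F_card, Subgroup.map_sup,
      (Subgroup.map_eq_bot_iff _).mpr hf.ge, sup_bot_eq]
  have hle : X ⊔ (F : Subgroup P) ≤ R := sup_le hX h.F_le
  have hexp : (∀ x ∈ X, x * x = 1) → ∀ a ∈ X ⊔ (F : Subgroup P), a * a = 1 := by
    intro hx a ha
    obtain ⟨y, hy, z, hz, rfl⟩ := Subgroup.mem_sup_of_normal_right.mp ha
    rw [mul_assoc, ← mul_assoc z y z, ← (h.F_comm (hX hy) hz).eq, mul_assoc y z z,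
      h.tsq z (mem_Fx.mp hz).1, mul_one]
    exact hx y hy
  refine ⟨?_, ?_, fun hx => ?_, ?_, fun h16 => ?_⟩
  · have := Subgroup.card_le_of_le (le_sup_left : X ≤ X ⊔ (F : Subgroup P))
    rwa [hsup X hX] at this
  · have := Subgroup.card_le_of_le hle
    rw [hsup X hX] at this
    have := h.cardR_le
    omega
  · have h1 : Nat.card (X ⊔ (F : Subgroup P) : Subgroup P) ≤ 16 := by
      rcases h.elem_small hle (hexp hx) with e | ⟨-, e⟩
      · exact (Subgroup.card_le_of_le e).trans h.card16.le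
      · exact e
    rw [hsup X hX] at h1
    omega
  · rintro ⟨x, hx, hne⟩
    have hmem : x * x ∈ L ⊓ (F : Subgroup P) := ⟨hXL.2 x hx, h.sqLE.2 x (hX hx)⟩
    have : Nontrivial (L ⊓ (F : Subgroup P) : Subgroup P) :=
      ⟨⟨⟨_, hmem⟩, 1, fun e => hne (congrArg Subtype.val e)⟩⟩
    exact Finite.one_lt_card
  · refine (congrArg (fun Y : Subgroup P => Nat.card Y) (inf_eq_right.mpr ?_)).trans h.toCtx.F_card
    have hR : X ⊔ (F : Subgroup P) = R := by
      refine Subgroup.eq_of_le_of_card_ge hle ?_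
      rw [hsup X hX]
      have := h.cardR_le
      omega
    intro f0 hf0
    obtain ⟨b, hb, hne, hbT, -⟩ := h.exists_b
    obtain ⟨g, hg, e⟩ := h.orbit hb hne hf0
    obtain ⟨y, hy, z, hz, hgy⟩ := Subgroup.mem_sup_of_normal_right.mp (hR.ge hg)
    obtain ⟨y', hy', z', hz', hby⟩ :=
      Subgroup.mem_sup_of_normal_right.mp (hR.ge (h.toCtx.T_le hbT))
    have hf0T := (mem_Fx.mp hf0).1
    have hcom : g * b * g⁻¹ * b⁻¹ = f0 := by
      rw [eq_mul_of_dl (T := T) (h.tsq b hbT) e, (h.tcomm b hbT f0 hf0T).eq, mul_inv_cancel_right]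
    have hyy : y * y' * y⁻¹ * y'⁻¹ = g * b * g⁻¹ * b⁻¹ := by
      rw [← hgy, ← hby]
      have c1 : Commute z y := (h.F_comm (hX hy) hz).symm
      have c2 : Commute z y' := (h.F_comm (hX hy') hz).symm
      have c3 : Commute z' y := (h.F_comm (hX hy) hz').symm
      have c4 : Commute z z' := h.tcomm z (mem_Fx.mp hz).1 z' (mem_Fx.mp hz').1
      symm
      calc y * z * (y' * z') * (y * z)⁻¹ * (y' * z')⁻¹
          = y * (z * (y' * z') * z⁻¹) * y⁻¹ * z'⁻¹ * y'⁻¹ := by group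
        _ = y * (y' * z') * y⁻¹ * z'⁻¹ * y'⁻¹ := by
            rw [(c2.mul_right c4).eq, mul_inv_cancel_right]
        _ = y * y' * (z' * y⁻¹ * z'⁻¹) * y'⁻¹ := by group
        _ = _ := by rw [c3.inv_right.eq, mul_inv_cancel_right]
    rw [← hcom, ← hyy]
    exact hXL.comm_mem hy hy'

theorem sectional_large : Cfsg.SectionalPRankLE 2 4 P := by
  have hnorm : ∀ g : P, g ∈ Subgroup.normalizer (R : Set P) := fun g =>
    h.normalizer_R_eq_top ▸ Subgroup.mem_top g
  have hRn : (R : Subgroup P).Normal :=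
    ⟨fun n hn g => (Subgroup.mem_normalizer_iff.mp (hnorm g) n).mp hn⟩
  have hFn : (F : Subgroup P).Normal := ⟨fun f hf g => h.conjF (hnorm g) hf⟩
  set f := QuotientGroup.mk' (F : Subgroup P) with hf
  have hker : f.ker = F := QuotientGroup.ker_mk' _
  refine sectional_of_sqLE fun X K hXK => ?_
  have hsplit : ∀ Y : Subgroup P,
      Nat.card Y = Nat.card (Y ⊓ F : Subgroup P) * Nat.card (Y.map f) := fun Y => by
    rw [card_split f Y, hker]
  obtain ⟨b1, b2, b3, b4, b5⟩ := h.inside (f := f) (X ⊓ R) (K ⊓ R) hFn hker inf_le_right (hXK.inf R)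
  have eK := hsplit (K ⊓ R)
  obtain ⟨i, hi⟩ := exists_two_pow (h.two.to_quotient (F : Subgroup P)) ((X ⊓ R).map f)
  have hl : 0 < Nat.card (((K ⊓ R) ⊓ F : Subgroup P)) := Nat.card_pos
  have hl' : 0 < Nat.card ((K ⊓ R).map f) := Nat.card_pos
  have hi4 : i ≤ 4 := (Nat.pow_le_pow_iff_right (by norm_num : 1 < 2)).mp (by rw [← hi]; exact b2)
  have hne3 : 3 ≤ i → 2 ≤ Nat.card ((K ⊓ R) ⊓ F : Subgroup P) := fun hi3 => b4 (by
    by_contra hh
    simp only [not_exists, not_and, not_not] at hh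
    have := b3 hh
    rw [hi] at this
    have : (2 : ℕ) ^ 3 ≤ 2 ^ i := Nat.pow_le_pow_right (by norm_num) hi3
    omega)
  by_cases hXR : X ≤ R
  · -- `X` inside `R`
    have h1 : Nat.card (X ⊓ R : Subgroup P) = Nat.card X := by rw [inf_eq_left.mpr hXR]
    have h2 : Nat.card (K ⊓ R : Subgroup P) ≤ Nat.card K := Subgroup.card_le_of_le inf_le_left
    rw [h1] at b1
    rw [hi] at b1
    exact (arith_inside hi4 b1 eK h2 hl hl' hne3 fun hi' => b5 (by rw [hi, hi']; norm_num)).trans_eq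
      (by norm_num)
  · -- `X` has elements outside `R`
    obtain ⟨x, hx, hxR⟩ := SetLike.not_le_iff_exists.mp hXR
    have hXle : Nat.card X ≤ 2 * Nat.card (X ⊓ R : Subgroup P) :=
      CfsgLib.TwoRank.card_le_two_mul_of_mul_mem X (X ⊓ R) fun q hq hqA s hs hsA =>
        ⟨X.mul_mem hq hs, h.mul_mem_R (hnorm q) (hnorm s) (fun e => hqA ⟨hq, e⟩)
          (fun e => hsA ⟨hs, e⟩)⟩
    obtain ⟨px, cx⟩ := h.conjT_props x
    have nx : conjT x T ≠ T := fun e => hxR (h.mem_R_of_conjT_eq e)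
    obtain ⟨hFE, hET, -⟩ := h.invol_mem (h.conjT_le (hnorm x)) px cx nx
    have hsupinv : ∀ a ∈ (X ⊓ R) ⊔ (F : Subgroup P), x * a * x⁻¹ ∈ (X ⊓ R) ⊔ (F : Subgroup P) := by
      intro a ha
      obtain ⟨y, hy, z, hz, rfl⟩ := Subgroup.mem_sup_of_normal_right.mp ha
      rw [show x * (y * z) * x⁻¹ = (x * y * x⁻¹) * (x * z * x⁻¹) by group]
      exact Subgroup.mul_mem _ (Subgroup.mem_sup_left
        ⟨X.mul_mem (X.mul_mem hx hy.1) (X.inv_mem hx), hRn.conj_mem y hy.2 x⟩)
        (Subgroup.mem_sup_right (hFn.conj_mem z hz x))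
    have hcard : Nat.card ((X ⊓ R) ⊔ (F : Subgroup P) : Subgroup P) = 4 * 2 ^ i := by
      rw [← hi, card_split f, hker, inf_eq_right.mpr le_sup_right, h.toCtx.F_card,
        Subgroup.map_sup, (Subgroup.map_eq_bot_iff _).mpr hker.ge, sup_bot_eq]
    set A := (X ⊓ R) ⊔ (F : Subgroup P) with hA
    have hAR : A ≤ R := sup_le inf_le_right h.F_le
    have hne2 : 2 ≤ i → 2 ≤ Nat.card ((K ⊓ R) ⊓ F : Subgroup P) := fun hi2 => b4 (by
      by_contra hh
      simp only [not_exists, not_and, not_not] at hh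
      have hle4 := b3 hh
      rw [hi] at hle4
      have hi2' : i = 2 := by
        have := (Nat.pow_le_pow_iff_right (by norm_num : 1 < 2)).mp
          (hle4.trans_eq (by norm_num : (4 : ℕ) = 2 ^ 2))
        omega
      have hAsq : ∀ a ∈ A, a * a = 1 := by
        intro a ha
        obtain ⟨y, hy, z, hz, rfl⟩ := Subgroup.mem_sup_of_normal_right.mp ha
        rw [mul_assoc, ← mul_assoc z y z, ← (h.F_comm hy.2 hz).eq, mul_assoc y z z,
          h.tsq z (mem_Fx.mp hz).1, mul_one]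
        exact hh y hy
      have h16 : Nat.card A = 16 := by rw [hcard, hi2']; norm_num
      by_cases hAT : A = T
      · exact hxR (h.mem_R_of_conjT_eq (Subgroup.eq_of_le_of_card_ge (fun y hy => by
          obtain ⟨t, ht, rfl⟩ := mem_conjT.mp hy
          rw [← hAT] at ht ⊢
          exact hsupinv t ht) (by rw [card_conjT])))
      · refine hAT (Subgroup.eq_of_le_of_card_ge ?_ (by rw [h16, h.card16])).symm |>.elim
        have e := h.unique_other (h.conjT_le (hnorm x)) px cx nx hAR hAsq h16 hAT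
        intro t ht
        have hsurj : Function.Surjective (fun a : A => (⟨x * a * x⁻¹, hsupinv a a.2⟩ : A)) :=
          Finite.surjective_of_injective fun a b e' => Subtype.ext
            (mul_left_cancel (mul_right_cancel (congrArg Subtype.val e')))
        obtain ⟨a, ha⟩ := hsurj ⟨x * t * x⁻¹, e.ge (mem_conjT.mpr ⟨t, ht, rfl⟩)⟩
        have e' : x * (a : P) * x⁻¹ = x * t * x⁻¹ := congrArg Subtype.val ha
        exact mul_left_cancel (mul_right_cancel e') ▸ a.2)
    have hl2 : 3 ≤ i → 2 ≤ Nat.card ((K ⊓ R).map f) := by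
      intro hi3
      have h32 : 32 ≤ Nat.card A := by
        rw [hcard]
        have : (2 : ℕ) ^ 3 ≤ 2 ^ i := Nat.pow_le_pow_right (by norm_num) hi3
        omega
      obtain ⟨t, ⟨htA, htT⟩, htF⟩ : ∃ t, t ∈ A ⊓ T ∧ t ∉ F := by
        by_contra hh
        simp only [not_exists, not_and, not_not] at hh
        have := Subgroup.card_le_of_le hh
        rw [h.toCtx.F_card] at this
        have := h.relIndex_le hAR
        omega
      obtain ⟨y, hy, z, hz, rfl⟩ := Subgroup.mem_sup_of_normal_right.mp htA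
      set c := x * y * x⁻¹ * y⁻¹ with hc
      have hcK : c ∈ K ⊓ R :=
        ⟨hXK.comm_mem hx hy.1, (R).mul_mem (hRn.conj_mem y hy.2 x) ((R).inv_mem hy.2)⟩
      have hcF : c ∉ F := by
        intro hcF
        have hyT : x * (y * z) * x⁻¹ ∈ T := by
          rw [show x * (y * z) * x⁻¹ = c * y * (x * z * x⁻¹) by rw [hc]; group]
          have hyT' : y ∈ T := (T.mul_mem_cancel_right (mem_Fx.mp hz).1).mp htT
          exact T.mul_mem (T.mul_mem (mem_Fx.mp hcF).1 hyT') (mem_Fx.mp (hFn.conj_mem z hz x)).1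
        have hmemF := hET ⟨mem_conjT.mpr ⟨y * z, htT, rfl⟩, hyT⟩
        refine htF ?_
        have := hFn.conj_mem _ hmemF x⁻¹
        rwa [show x⁻¹ * (x * (y * z) * x⁻¹) * x⁻¹⁻¹ = y * z by group] at this
      have hne : (K ⊓ R).map f ≠ ⊥ := fun e =>
        hcF (hker ▸ (MonoidHom.mem_ker.mpr (Subgroup.mem_bot.mp (e ▸ Subgroup.mem_map_of_mem f hcK))))
      exact Subgroup.one_lt_card_iff_ne_bot _ |>.mpr hne
    have h2 : Nat.card (K ⊓ R : Subgroup P) ≤ Nat.card K := Subgroup.card_le_of_le inf_le_left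
    rw [hi] at b1
    exact (arith_outside hi4 hXle b1 eK h2 hl hl' hne2 hl2
      fun hi' => b5 (by rw [hi, hi']; norm_num)).trans_eq (by norm_num)

end Full

end CfsgLib.TwoRank.FourCent
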