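import Cfsg.Agent.Lib.TwoRank.FourCent.Fix

/-!
# The case of a non-abelian `T` with a large abelian subgroup
-/

set_option autoImplicit false
set_option linter.unusedSectionVars false
set_option linter.style.haveILetI false

namespace CfsgLib.TwoRank.FourCent

variable {P : Type*} [Group P] [Finite P]

theorem Data.exists_normalizer {T B : Subgroup P} (h : Data T B) (hT : T ≠ ⊤) :
    ∃ w ∈ Subgroup.normalizer (T : Set P), w ∉ T ∧ w * w ∈ T := by
  haveI : Fact (Nat.Prime 2) := ⟨Nat.prime_two⟩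
  have := h.two.isNilpotent
  exact exists_sq_mem h.two fun hle =>
    (Group.normalizerCondition_of_isNilpotent T (lt_top_iff_ne_top.mpr hT)).not_ge hle

theorem Data.sectional_cyclic {T B : Subgroup P} (h : Data T B) (A : Subgroup P)
    (hAT : A ≤ T) (hidx : ∀ t ∈ T, ∀ u ∈ T, t ∉ A → u ∉ A → t * u ∈ A)
    (hAc : ∀ a ∈ A, ∀ b ∈ A, Commute a b) (Om : Subgroup P)
    (hOm : ∀ a ∈ A, a * a = 1 → a ∈ Om) (hOm8 : Nat.card Om ≤ 8)
    (hna : ∃ s ∈ T, ∃ t ∈ T, ¬ Commute s t) :
    Cfsg.SectionalPRankLE 2 4 P := by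
  haveI : Fact (Nat.Prime 2) := ⟨Nat.prime_two⟩
  -- central elements of `T` lie in `A`
  have hcA : ∀ z ∈ T, (∀ t ∈ T, Commute z t) → z ∈ A := by
    intro z hz hc
    by_contra hzA
    have hcov : ∀ t ∈ T, ∃ a ∈ A, t = a ∨ t = a * z⁻¹ := fun t ht => by
      by_cases htA : t ∈ A
      · exact ⟨t, htA, Or.inl rfl⟩
      · exact ⟨t * z, hidx t ht z hz htA hzA, Or.inr (by group)⟩
    obtain ⟨s, hs, t, ht, hne⟩ := hna
    apply hne
    obtain ⟨a, ha, ea⟩ := hcov s hs
    obtain ⟨b, hb, eb⟩ := hcov t ht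
    have c1 : Commute a b := hAc a ha b hb
    have c2 : Commute a z⁻¹ := ((hc a (hAT ha)).symm).inv_right
    have c3 : Commute b z⁻¹ := ((hc b (hAT hb)).symm).inv_right
    rcases ea with rfl | rfl <;> rcases eb with rfl | rfl
    exacts [c1, c1.mul_right c2, c1.mul_left c3.symm,
      (c1.mul_left c3.symm).mul_right (c2.mul_left (Commute.refl z⁻¹))]
  have hT : T = ⊤ := by
    by_contra hne
    obtain ⟨w, hwN, hwT, hw2⟩ := h.exists_normalizer hne
    let Z : Subgroup P :=
      { carrier := {z | z ∈ T ∧ z * z = 1 ∧ ∀ t ∈ T, Commute z t}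
        one_mem' := ⟨T.one_mem, one_mul 1, fun t _ => Commute.one_left t⟩
        mul_mem' := fun {a b} ha hb => ⟨T.mul_mem ha.1 hb.1, by
            rw [mul_assoc, ← mul_assoc b, ← (ha.2.2 b hb.1).eq, mul_assoc a b b, hb.2.1, mul_one,
              ha.2.1],
          fun t ht => (ha.2.2 t ht).mul_left (hb.2.2 t ht)⟩
        inv_mem' := fun {a} ha => ⟨T.inv_mem ha.1, by rw [← mul_inv_rev, ha.2.1, inv_one],
          fun t ht => (ha.2.2 t ht).inv_left⟩ }
    have hBZ : B ≤ Z := fun b hb => ⟨h.le hb, h.sq b hb, h.comm b hb⟩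
    have hwn : ∀ t ∈ T, w⁻¹ * t * w ∈ T := fun t ht =>
      (Subgroup.mem_normalizer_iff''.mp hwN t).mp ht
    have hwZ : ∀ z ∈ Z, w * z * w⁻¹ ∈ Z := by
      intro z hz
      refine ⟨(Subgroup.mem_normalizer_iff.mp hwN z).mp hz.1, ?_, fun t ht => ?_⟩
      · rw [show w * z * w⁻¹ * (w * z * w⁻¹) = w * (z * z) * w⁻¹ by group, hz.2.1]; group
      · have := (hz.2.2 _ (hwn t ht)).eq
        show w * z * w⁻¹ * t = t * (w * z * w⁻¹)
        calc w * z * w⁻¹ * t = w * (z * (w⁻¹ * t * w)) * w⁻¹ := by group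
          _ = _ := by rw [this]; group
    have hZle : Z ≤ Om := fun z hz => hOm z (hcA z hz.1 hz.2.2) hz.2.1
    obtain ⟨h1, h2, -, -⟩ := h.fix hBZ (fun z hz => hz.2.2) (fun z hz => hz.1)
      (fun z hz => hz.2.1) hwT hw2 hwZ
    have h4 := Subgroup.card_le_of_le hBZ
    rw [h.card] at h4
    have h8 := (Subgroup.card_le_of_le hZle).trans hOm8
    rcases Nat.lt_or_ge (Nat.card (Z ⊓ Subgroup.centralizer {w} : Subgroup P)) 2 with hl | hl
    · nlinarith
    · rcases Nat.lt_or_ge (Nat.card (Z ⊓ Subgroup.centralizer {w} : Subgroup P)) 3 with hl' | hl'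
      · nlinarith
      · omega
  have hn : A.Normal := ⟨fun a ha t => by
    have hm : ∀ x : P, x ∈ T := fun x => hT ▸ Subgroup.mem_top x
    by_cases htA : t ∈ A
    · exact A.mul_mem (A.mul_mem htA ha) (A.inv_mem htA)
    · exact hidx _ (hm _) _ (hm _) (fun e => htA ((A.mul_mem_cancel_right ha).mp e))
        (fun e => htA (A.inv_mem_iff.mp e))⟩
  refine sectional_of_sqLE fun X K hXK => ?_
  refine (card_le_split (QuotientGroup.mk' A) (X := X) (K := K) (a := 8) (b := 2) ?_ ?_).trans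
    (le_of_eq (by norm_num))
  · rw [QuotientGroup.ker_mk']
    exact card_le_omega_of_le h.two A (fun x hx _ g hg => (hAc g hg x hx).eq) Om
      (fun x hx e => hOm x hx (by rw [← pow_two]; exact e)) hOm8 inf_le_right (hXK.inf A)
  · have h1 : Nat.card (X.map (QuotientGroup.mk' A)) ≤ A.index := Subgroup.card_le_card_group _
    have h2 : A.index ≤ 2 := by
      by_cases hA : A = ⊤
      · rw [hA, Subgroup.index_top]; omega
      · obtain ⟨u, -, hu⟩ := SetLike.exists_of_lt (lt_top_iff_ne_top.mpr hA)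
        have : A.index = 2 := Subgroup.index_eq_two_iff.mpr ⟨u, fun b => by
          have hm : ∀ x : P, x ∈ T := fun x => hT ▸ Subgroup.mem_top x
          by_cases hb : b ∈ A
          · exact Or.inr ⟨hb, fun e => hu ((A.mul_mem_cancel_left hb).mp e)⟩
          · exact Or.inl ⟨hidx b (hm b) u (hm u) hb hu, hb⟩⟩
        omega
    have h3 : 0 < Nat.card (K.map (QuotientGroup.mk' A)) := Nat.card_pos
    nlinarith

end CfsgLib.TwoRank.FourCent
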