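import Cfsg.Agent.Lib.TwoRank.FourCent.Basic

/-!
# An element normalising a subgroup containing the four-group
-/

set_option autoImplicit false
set_option linter.unusedSectionVars false
set_option linter.style.haveILetI false

namespace CfsgLib.TwoRank.FourCent

variable {P : Type*} [Group P] [Finite P]

/-- A subgroup containing a four-group all of whose involutions have their centralisers inside it. -/
structure Data (T B : Subgroup P) : Prop where
  two : IsPGroup 2 P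
  le : B ≤ T
  card : Nat.card B = 4
  sq : ∀ b ∈ B, b * b = 1
  comm : ∀ b ∈ B, ∀ t ∈ T, Commute b t
  cent : ∀ b ∈ B, b ≠ 1 → ∀ g : P, Commute g b → g ∈ T

theorem exists_sq_mem (hP : IsPGroup 2 P) {H L : Subgroup P} (hlt : ¬ L ≤ H) :
    ∃ w ∈ L, w ∉ H ∧ w * w ∈ H := by
  obtain ⟨g, hgL, hgH⟩ := SetLike.not_le_iff_exists.mp hlt
  obtain ⟨m, hm⟩ := hP g
  have key : ∀ (j : ℕ) (g : P), g ∈ L → g ∉ H → g ^ 2 ^ j ∈ H →
      ∃ w ∈ L, w ∉ H ∧ w * w ∈ H := by
    intro j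
    induction j with
    | zero => intro g _ h1 h2; rw [pow_zero, pow_one] at h2; exact absurd h2 h1
    | succ j ih =>
      intro g hgL h1 h2
      by_cases hj : g ^ 2 ^ j ∈ H
      · exact ih g hgL h1 hj
      · refine ⟨g ^ 2 ^ j, L.pow_mem hgL _, hj, ?_⟩
        rwa [← pow_two, ← pow_mul, ← pow_succ]
  exact key m g hgL hgH (by rw [hm]; exact H.one_mem)

/-- A subgroup with trivial intersection with `B` and elementwise commuting with it. -/
theorem card_mul_le {F B Z : Subgroup P} (hF : F ≤ Z) (hB : B ≤ Z)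
    (hdis : ∀ f ∈ F, f ∈ B → f = 1) : Nat.card F * Nat.card B ≤ Nat.card Z := by
  rw [← Nat.card_prod]
  refine Nat.card_le_card_of_injective (fun x : F × B => (⟨x.1 * x.2, Z.mul_mem (hF x.1.2) (hB x.2.2)⟩ : Z)) ?_
  rintro ⟨f, b⟩ ⟨f', b'⟩ e
  have e' : (f : P) * b = f' * b' := congrArg Subtype.val e
  have h1 : (f' : P)⁻¹ * f = b' * (b : P)⁻¹ := by
    rw [eq_mul_inv_iff_mul_eq, mul_assoc, e', inv_mul_cancel_left]
  have h2 := hdis _ (F.mul_mem (F.inv_mem f'.2) f.2) (h1 ▸ B.mul_mem b'.2 (B.inv_mem b.2))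
  have hf : (f : P) = f' := by
    have := mul_eq_one_iff_inv_eq.mp h2
    rwa [inv_inv, eq_comm] at this
  rw [hf] at e'
  exact Prod.ext (Subtype.ext hf) (Subtype.ext (mul_left_cancel e'))

theorem Data.fix {T B : Subgroup P} (h : Data T B) {Z : Subgroup P} (hBZ : B ≤ Z)
    (hZc : ∀ z ∈ Z, ∀ t ∈ T, Commute z t) (hZT : Z ≤ T) (hZs : ∀ z ∈ Z, z * z = 1)
    {w : P} (hwT : w ∉ T) (hw2 : w * w ∈ T) (hwZ : ∀ z ∈ Z, w * z * w⁻¹ ∈ Z) :
    Nat.card (Z ⊓ Subgroup.centralizer {w} : Subgroup P) * 4 ≤ Nat.card Z ∧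
      Nat.card Z ≤ Nat.card (Z ⊓ Subgroup.centralizer {w} : Subgroup P) *
        Nat.card (Z ⊓ Subgroup.centralizer {w} : Subgroup P) ∧
      (∀ z ∈ Z, z * (w * z * w⁻¹) ∈ Z ⊓ Subgroup.centralizer {w}) ∧
      (Nat.card Z = 16 → ∀ f ∈ Z ⊓ Subgroup.centralizer {w}, ∃ z ∈ Z, z * (w * z * w⁻¹) = f) := by
  set F := Z ⊓ Subgroup.centralizer ({w} : Set P) with hF
  have h1 : Nat.card F * 4 ≤ Nat.card Z := by
    rw [← h.card]
    refine card_mul_le inf_le_left hBZ fun f hf hfB => ?_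
    by_contra hne
    exact hwT (h.cent f hfB hne w (Subgroup.mem_centralizer_singleton_iff.mp hf.2).symm)
  have hcomm : ∀ a ∈ Z, ∀ b ∈ Z, Commute a b := fun a ha b hb => hZc a ha b (hZT hb)
  let δ : Z →* Z :=
    { toFun := fun z => ⟨z * (w * z * w⁻¹), Z.mul_mem z.2 (hwZ _ z.2)⟩
      map_one' := Subtype.ext (by simp)
      map_mul' := fun a b => Subtype.ext (by
        show (a : P) * b * (w * (a * b) * w⁻¹) = a * (w * a * w⁻¹) * (b * (w * b * w⁻¹))
        rw [show w * ((a : P) * b) * w⁻¹ = (w * a * w⁻¹) * (w * b * w⁻¹) by group,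
          mul_assoc, ← mul_assoc (b : P), (hcomm _ b.2 _ (hwZ _ a.2)).eq]
        simp [mul_assoc]) }
  have himg : ∀ z ∈ Z, z * (w * z * w⁻¹) ∈ F := by
    intro z hz
    refine ⟨Z.mul_mem hz (hwZ z hz), Subgroup.mem_centralizer_singleton_iff.mpr ?_⟩
    have e : w * (z * (w * z * w⁻¹)) * w⁻¹ = z * (w * z * w⁻¹) := by
      calc w * (z * (w * z * w⁻¹)) * w⁻¹ = (w * z * w⁻¹) * ((w * w) * z * (w * w)⁻¹) := by group
        _ = (w * z * w⁻¹) * z := by
            rw [((hZc z hz _ hw2).symm).eq, mul_inv_cancel_right]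
        _ = _ := (hcomm z hz _ (hwZ z hz)).symm
    exact (mul_inv_eq_iff_eq_mul.mp e).symm
  have hker : Nat.card δ.ker ≤ Nat.card F := by
    refine Nat.card_le_card_of_injective (fun z : δ.ker => (⟨((z : Z) : P), z.1.2,
      Subgroup.mem_centralizer_singleton_iff.mpr ?_⟩ : F)) fun a b e =>
        Subtype.ext (Subtype.ext (congrArg (fun f : F => (f : P)) e))
    have e : (z.1 : P) * (w * z.1 * w⁻¹) = 1 := congrArg Subtype.val z.2
    have e2 : w * (z.1 : P) * w⁻¹ = z.1 := by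
      rw [eq_inv_of_mul_eq_one_right e, inv_eq_iff_mul_eq_one]
      exact hZs _ z.1.2
    exact (mul_inv_eq_iff_eq_mul.mp e2).symm
  have hran : Nat.card δ.range ≤ Nat.card F := by
    refine Nat.card_le_card_of_injective (fun z : δ.range => (⟨((z : Z) : P), ?_⟩ : F))
      fun a b e => Subtype.ext (Subtype.ext (congrArg (fun f : F => (f : P)) e))
    obtain ⟨y, hy⟩ := z.2
    rw [← hy]
    exact himg y y.2
  have hsplit : Nat.card Z = Nat.card δ.ker * Nat.card δ.range := by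
    rw [← δ.ker.card_mul_index, Subgroup.index_ker]
  refine ⟨h1, hsplit ▸ Nat.mul_le_mul hker hran, himg, fun h16 f hf => ?_⟩
  let R : Subgroup P := δ.range.map Z.subtype
  have hR : R = F := by
    refine Subgroup.eq_of_le_of_card_ge ?_ ?_
    · rintro _ ⟨x, ⟨y, rfl⟩, rfl⟩
      exact himg y y.2
    · rw [Subgroup.card_map_of_injective Z.subtype_injective]
      have hF4 : Nat.card F ≤ 4 := by omega
      nlinarith
  obtain ⟨x, ⟨y, rfl⟩, hx⟩ : f ∈ R := hR ▸ hf
  exact ⟨y, y.2, hx⟩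

end CfsgLib.TwoRank.FourCent

namespace CfsgLib.TwoRank.FourCent

theorem mem_normalizer_of_conj {P : Type*} [Group P] [Finite P] {H : Subgroup P} {g : P}
    (hg : ∀ x ∈ H, g * x * g⁻¹ ∈ H) : g ∈ Subgroup.normalizer (H : Set P) := by
  have hsurj : Function.Surjective (fun x : H => (⟨g * x * g⁻¹, hg x x.2⟩ : H)) := by
    refine Finite.surjective_of_injective fun a b e => Subtype.ext ?_
    have e' : g * (a : P) * g⁻¹ = g * b * g⁻¹ := congrArg Subtype.val e
    exact mul_left_cancel (mul_right_cancel e')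
  refine Subgroup.mem_normalizer_iff.mpr fun x => ⟨hg x, fun hx => ?_⟩
  obtain ⟨y, hy⟩ := hsurj ⟨_, hx⟩
  have e' : g * (y : P) * g⁻¹ = g * x * g⁻¹ := congrArg Subtype.val hy
  exact mul_left_cancel (mul_right_cancel e') ▸ y.2

end CfsgLib.TwoRank.FourCent
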