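import Cfsg.Agent.Lib.TwoRank.FourCent.Bound

/-!
# The elementary abelian case
-/

set_option autoImplicit false
set_option linter.unusedSectionVars false
set_option linter.style.haveILetI false

namespace CfsgLib.TwoRank.FourCent

variable {P : Type*} [Group P] [Finite P] {T B : Subgroup P}

theorem Data16.sectional (h : Data16 T B) : Cfsg.SectionalPRankLE 2 4 P := by
  by_cases hT : T = ⊤
  · refine sectional_of_sqLE fun X K _ => ?_
    have h1 : Nat.card X ≤ Nat.card T := Subgroup.card_le_of_le (hT ▸ le_top)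
    have h2 : 0 < Nat.card K := Nat.card_pos
    rw [h.card16] at h1
    calc Nat.card X ≤ 16 := h1
      _ = 2 ^ 4 * 1 := by norm_num
      _ ≤ _ := Nat.mul_le_mul_left _ h2
  obtain ⟨w, hwN, hwT, hw2⟩ := h.toData.exists_normalizer hT
  have hc : Ctx T B w := ⟨h, hwN, hwT, hw2⟩
  by_cases hsmall : ∀ g ∈ stabF T w, g ∈ T ∨ w⁻¹ * g ∈ T
  · exact hc.sectional_small hsmall
  · simp only [not_forall, not_or] at hsmall
    obtain ⟨g, hg, h1, h2⟩ := hsmall
    exact (⟨hc, hg, h1, h2⟩ : Full T B w g).sectional_large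

end CfsgLib.TwoRank.FourCent
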