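import Cfsg.Agent.Lib.TwoRank.FourCent.Cyclic

/-!
# The elementary abelian case: the normaliser of `T`
-/

set_option autoImplicit false
set_option linter.unusedSectionVars false
set_option linter.unusedVariables false
set_option linter.style.haveILetI false

namespace CfsgLib.TwoRank.FourCent

variable {P : Type*} [Group P] [Finite P]

/-- `T` is elementary abelian of order sixteen. -/
structure Data16 (T B : Subgroup P) : Prop extends Data T B where
  card16 : Nat.card T = 16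
  tsq : ∀ t ∈ T, t * t = 1
  tcomm : ∀ t ∈ T, ∀ u ∈ T, Commute t u

/-- `t ↦ t * t^g`. -/
def dl (g t : P) : P := t * (g * t * g⁻¹)

/-- An element inducing an involution on `T`. -/
def Invo (T : Subgroup P) (w : P) : Prop :=
  w ∈ Subgroup.normalizer (T : Set P) ∧ w ∉ T ∧ w * w ∈ T

/-- The fixed points in `T`. -/
abbrev Fx (T : Subgroup P) (w : P) : Subgroup P := T ⊓ Subgroup.centralizer ({w} : Set P)

theorem mem_Fx {T : Subgroup P} {w f : P} : f ∈ Fx T w ↔ f ∈ T ∧ Commute f w :=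
  ⟨fun h => ⟨h.1, Subgroup.mem_centralizer_singleton_iff.mp h.2⟩,
    fun h => ⟨h.1, Subgroup.mem_centralizer_singleton_iff.mpr h.2.eq⟩⟩

/-- The elements normalising `T` and centralising the fixed points of `w`. -/
abbrev stabF (T : Subgroup P) (w : P) : Subgroup P :=
  Subgroup.normalizer (T : Set P) ⊓ Subgroup.centralizer (Fx T w : Set P)

theorem Invo.conj_mem {T : Subgroup P} {g : P} (hg : g ∈ Subgroup.normalizer (T : Set P)) {t : P}
    (ht : t ∈ T) : g * t * g⁻¹ ∈ T :=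
  (Subgroup.mem_normalizer_iff.mp hg t).mp ht

theorem eq_mul_of_dl {T : Subgroup P} {g t f : P} (hsq : t * t = 1) (h : dl g t = f) :
    g * t * g⁻¹ = t * f := by
  rw [← h, dl, ← mul_assoc, hsq, one_mul]

namespace Data16

variable {T B : Subgroup P} (h : Data16 T B)
include h

theorem selfCent {g : P} (hg : ∀ t ∈ T, Commute g t) : g ∈ T := by
  obtain ⟨b, hb, hne⟩ : ∃ b ∈ B, b ≠ 1 := by
    by_contra hh
    simp only [not_exists, not_and, not_not] at hh
    have : B = ⊥ := (Subgroup.eq_bot_iff_forall B).mpr hh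
    have := h.card
    simp_all
  exact h.cent b hb hne g (hg b (h.le hb))

theorem fix_data {w : P} (hw : Invo T w) :
    Nat.card (Fx T w) = 4 ∧ (∀ t ∈ T, dl w t ∈ Fx T w) ∧
      (∀ f ∈ Fx T w, ∃ t ∈ T, dl w t = f) := by
  obtain ⟨h1, h2, h3, h4⟩ := h.toData.fix h.le h.tcomm le_rfl h.tsq hw.2.1 hw.2.2
    (fun z hz => Invo.conj_mem hw.1 hz)
  rw [h.card16] at h1 h2
  refine ⟨?_, h3, h4 h.card16⟩
  have : 4 ≤ Nat.card (Fx T w) := by
    by_contra hlt
    have : Nat.card (Fx T w) ≤ 3 := by omega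
    nlinarith
  have : Nat.card (Fx T w) * 4 ≤ 16 := h1
  omega

theorem disjoint {w f : P} (hw : Invo T w) (hf : f ∈ Fx T w) (hfB : f ∈ B) : f = 1 := by
  by_contra hne
  exact hw.2.1 (h.cent f hfB hne w (mem_Fx.mp hf).2.symm)

/-- `T = F × B`. -/
theorem decomp {w : P} (hw : Invo T w) {t : P} (ht : t ∈ T) :
    ∃ f ∈ Fx T w, ∃ b ∈ B, t = f * b := by
  let φ : Fx T w × B → T := fun x => ⟨x.1 * x.2, T.mul_mem x.1.2.1 (h.le x.2.2)⟩
  have hinj : Function.Injective φ := by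
    rintro ⟨f, b⟩ ⟨f', b'⟩ e
    have e' : (f : P) * b = f' * b' := congrArg Subtype.val e
    have h1 : (f' : P)⁻¹ * f = b' * (b : P)⁻¹ := by
      rw [eq_mul_inv_iff_mul_eq, mul_assoc, e', inv_mul_cancel_left]
    have h2 := h.disjoint hw ((Fx T w).mul_mem ((Fx T w).inv_mem f'.2) f.2)
      (h1 ▸ B.mul_mem b'.2 (B.inv_mem b.2))
    have hf : (f : P) = f' := by
      have := mul_eq_one_iff_inv_eq.mp h2
      rwa [inv_inv, eq_comm] at this
    rw [hf] at e'
    exact Prod.ext (Subtype.ext hf) (Subtype.ext (mul_left_cancel e'))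
  have hsur := (hinj.bijective_of_nat_card_le (by
    rw [Nat.card_prod, (h.fix_data hw).1, h.card, h.card16])).2
  obtain ⟨⟨f, b⟩, e⟩ := hsur ⟨t, ht⟩
  exact ⟨f, f.2, b, b.2, (congrArg Subtype.val e).symm⟩

theorem dl_mul {g : P} (hg : g ∈ Subgroup.normalizer (T : Set P)) {s t : P} (hs : s ∈ T)
    (ht : t ∈ T) : dl g (s * t) = dl g s * dl g t := by
  have hc := (h.tcomm t ht _ (Invo.conj_mem hg hs)).eq
  calc dl g (s * t) = s * (t * (g * s * g⁻¹)) * (g * t * g⁻¹) := by unfold dl; group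
    _ = _ := by rw [hc]; unfold dl; group

theorem dl_mul_left {g t : P} (hg : g ∈ Subgroup.normalizer (T : Set P)) (ht : t ∈ T) {s : P}
    (hs : s ∈ T) : dl (g * s) t = dl g t := by
  have := (h.tcomm s hs t ht).eq
  calc dl (g * s) t = t * (g * (s * t * s⁻¹) * g⁻¹) := by unfold dl; group
    _ = _ := by rw [this, mul_inv_cancel_right]; rfl

/-- There is an involution in each coset. -/
theorem exists_involution {w : P} (hw : Invo T w) : ∃ t ∈ T, (w * t) * (w * t) = 1 := by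
  have hw2F : w * w ∈ Fx T w := mem_Fx.mpr ⟨hw.2.2, ((Commute.refl w).mul_left (Commute.refl w))⟩
  obtain ⟨t, ht, e⟩ := (h.fix_data hw).2.2 _ hw2F
  refine ⟨t, ht, ?_⟩
  have e' : w * t * w⁻¹ = t * (w * w) := eq_mul_of_dl (T := T) (h.tsq t ht) e
  have hc : (w * w) * t = t * (w * w) := (h.tcomm _ hw.2.2 t ht).eq
  calc (w * t) * (w * t) = (w * t * w⁻¹) * ((w * w) * t) := by group
    _ = (t * (w * w)) * (t * (w * w)) := by rw [e', hc]
    _ = 1 := h.tsq _ (T.mul_mem ht hw.2.2)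

end Data16

/-- The context given by one involutory element. -/
structure Ctx (T B : Subgroup P) (w : P) : Prop extends Data16 T B where
  invo : Invo T w

namespace Ctx

variable {T B : Subgroup P} {w : P} (h : Ctx T B w)
include h

local notation "F" => Fx T w
local notation "R" => stabF T w

theorem F_card : Nat.card (F : Subgroup P) = 4 := (h.toData16.fix_data h.invo).1

theorem T_le : T ≤ R := fun t ht =>
  ⟨Subgroup.le_normalizer ht, Subgroup.mem_centralizer_iff.mpr fun f hf =>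
    (h.tcomm f (mem_Fx.mp hf).1 t ht).eq⟩

theorem w_mem : w ∈ R :=
  ⟨h.invo.1, Subgroup.mem_centralizer_iff.mpr fun f hf => (mem_Fx.mp hf).2.eq⟩

theorem Fx_eq {g : P} (hg : g ∈ R) (hgT : g ∉ T) (hg2 : g * g ∈ T) : Fx T g = F := by
  refine (Subgroup.eq_of_le_of_card_ge (fun f hf => mem_Fx.mpr ⟨(mem_Fx.mp hf).1,
    Subgroup.mem_centralizer_iff.mp hg.2 f hf⟩) ?_).symm
  rw [(h.toData16.fix_data ⟨hg.1, hgT, hg2⟩).1, h.F_card]

/-- If `u²` acts trivially modulo `F`, then `u` fixes some element outside `F` modulo `F`. -/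
theorem exists_fixed {u : P} (hu : u ∈ Subgroup.normalizer (T : Set P))
    (hh : ∀ t ∈ T, dl (u * u) t ∈ F) : ∃ t ∈ T, t ∉ F ∧ dl u t ∈ F := by
  by_cases hall : ∀ b ∈ B, dl u b ∈ F
  · obtain ⟨b, hb, hne⟩ : ∃ b ∈ B, b ≠ 1 := by
      by_contra hh'
      simp only [not_exists, not_and, not_not] at hh'
      have : B = ⊥ := (Subgroup.eq_bot_iff_forall B).mpr hh'
      have := h.card
      simp_all
    exact ⟨b, h.le hb, fun hbF => hne (h.toData16.disjoint h.invo hbF hb), hall b hb⟩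
  · simp only [not_forall] at hall
    obtain ⟨b, hb, hnF⟩ := hall
    have hbT := h.le hb
    refine ⟨dl u b, T.mul_mem hbT (Invo.conj_mem hu hbT), hnF, ?_⟩
    have hcT := Invo.conj_mem hu hbT
    have e : dl u (dl u b) = dl (u * u) b := by
      calc dl u (dl u b) = b * ((u * b * u⁻¹) * (u * b * u⁻¹)) * ((u * u) * b * (u * u)⁻¹) := by
            unfold dl; group
        _ = _ := by rw [h.tsq _ hcT, mul_one]; rfl
    rw [e]
    exact hh b hbT

theorem sq_sq_comm {u t : P} (ht : t ∈ T) (hu : u ∈ R) (hd : dl u t ∈ F) :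
    Commute t (u * u) := by
  have e1 : u * t * u⁻¹ = t * dl u t := eq_mul_of_dl (T := T) (h.tsq t ht) rfl
  have e2 : u * dl u t * u⁻¹ = dl u t := by
    rw [(Subgroup.mem_centralizer_iff.mp hu.2 _ hd).symm, mul_inv_cancel_right]
  have e3 : (u * u) * t * (u * u)⁻¹ = t := by
    calc (u * u) * t * (u * u)⁻¹ = u * (t * dl u t) * u⁻¹ := by rw [← e1]; group
      _ = (u * t * u⁻¹) * (u * dl u t * u⁻¹) := by group
      _ = t * (dl u t * dl u t) := by rw [e2, e1, mul_assoc]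
      _ = t := by rw [h.tsq _ (mem_Fx.mp hd).1, mul_one]
  exact (mul_inv_eq_iff_eq_mul.mp e3).symm

/-- Every element of `R` squares into `T`. -/
theorem sq_mem {g : P} (hg : g ∈ R) : g * g ∈ T := by
  obtain ⟨m, hm⟩ := h.two g
  suffices key : ∀ (j : ℕ) (u : P), u ∈ R → u ^ 2 ^ j ∈ T → u * u ∈ T from
    key m g hg (by rw [hm]; exact T.one_mem)
  intro j
  induction j with
  | zero =>
    intro u _ hu
    rw [pow_zero, pow_one] at hu
    exact T.mul_mem hu hu
  | succ j ih =>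
    intro u hu hj
    by_contra hnot
    -- `u²` induces an involution
    have h4 : (u * u) * (u * u) ∈ T := by
      refine ih (u * u) ((R).mul_mem hu hu) ?_
      rw [← pow_two, ← pow_mul, ← pow_succ']
      exact hj
    have hFh : Fx T (u * u) = F := h.Fx_eq ((R).mul_mem hu hu) hnot h4
    have hh : ∀ t ∈ T, dl (u * u) t ∈ F := fun t ht =>
      hFh ▸ (h.toData16.fix_data ⟨((R).mul_mem hu hu).1, hnot, h4⟩).2.1 t ht
    obtain ⟨t, ht, htF, hd⟩ := h.exists_fixed hu.1 hh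
    exact htF (hFh ▸ mem_Fx.mpr ⟨ht, h.sq_sq_comm ht hu hd⟩)

theorem dl_mem {g : P} (hg : g ∈ R) {t : P} (ht : t ∈ T) : dl g t ∈ F := by
  by_cases hgT : g ∈ T
  · have : dl g t = 1 := by
      rw [dl, (h.tcomm g hgT t ht).eq, mul_inv_cancel_right]
      exact h.tsq t ht
    rw [this]
    exact (Fx T w).one_mem
  · have := (h.toData16.fix_data ⟨hg.1, hgT, h.sq_mem hg⟩).2.1 t ht
    rwa [h.Fx_eq hg hgT (h.sq_mem hg)] at this

theorem dl_comp {g g' : P} (hg : g ∈ R) (hg' : g' ∈ R) {t : P} (ht : t ∈ T) :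
    dl (g * g') t = dl g t * dl g' t := by
  have e1 : g' * t * g'⁻¹ = t * dl g' t := eq_mul_of_dl (T := T) (h.tsq t ht) rfl
  have e2 : g * dl g' t * g⁻¹ = dl g' t := by
    rw [(Subgroup.mem_centralizer_iff.mp hg.2 _ (h.dl_mem hg' ht)).symm, mul_inv_cancel_right]
  calc dl (g * g') t = t * (g * (g' * t * g'⁻¹) * g⁻¹) := by unfold dl; group
    _ = dl g t * (g * dl g' t * g⁻¹) := by rw [e1]; unfold dl; group
    _ = _ := by rw [e2]

/-- Two elements of `R` agreeing on an element with centraliser in `T` are congruent modulo `T`. -/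
theorem dl_inj {g g' t : P} (ht : t ∈ T) (hC : ∀ x : P, Commute x t → x ∈ T)
    (e : dl g t = dl g' t) : g⁻¹ * g' ∈ T := by
  have e' : g * t * g⁻¹ = g' * t * g'⁻¹ := mul_left_cancel e
  refine hC _ ?_
  show g⁻¹ * g' * t = t * (g⁻¹ * g')
  calc g⁻¹ * g' * t = g⁻¹ * (g' * t * g'⁻¹) * g' := by group
    _ = _ := by rw [← e']; group

/-- For two elements independent modulo `T` every value is attained, and they generate `R`. -/
theorem pair_cover {g₁ g₂ : P} (h1 : g₁ ∈ R) (h2 : g₂ ∈ R) (h1T : g₁ ∉ T) (h2T : g₂ ∉ T)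
    (h12 : g₁⁻¹ * g₂ ∉ T) {t : P} (ht : t ∈ T) (hC : ∀ x : P, Commute x t → x ∈ T) :
    ∀ f ∈ F, f = 1 ∨ f = dl g₁ t ∨ f = dl g₂ t ∨ f = dl (g₁ * g₂) t := by
  intro f hf
  let φ : Fin 4 → (F : Subgroup P) := ![⟨1, (Fx T w).one_mem⟩, ⟨_, h.dl_mem h1 ht⟩,
    ⟨_, h.dl_mem h2 ht⟩, ⟨_, h.dl_mem ((R).mul_mem h1 h2) ht⟩]
  have e0 : dl (1 : P) t = 1 := by simp [dl, h.tsq t ht]
  have n1 : dl g₁ t ≠ 1 := fun e => h1T (by simpa using h.dl_inj ht hC (e0.trans e.symm))
  have n2 : dl g₂ t ≠ 1 := fun e => h2T (by simpa using h.dl_inj ht hC (e0.trans e.symm))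
  have n12 : dl g₁ t ≠ dl g₂ t := fun e => h12 (h.dl_inj ht hC e)
  have e3 : dl (g₁ * g₂) t = dl g₁ t * dl g₂ t := h.dl_comp h1 h2 ht
  have s1 := h.tsq _ (mem_Fx.mp (h.dl_mem h1 ht)).1
  have n3 : dl (g₁ * g₂) t ≠ 1 := fun e => n12 (by
    rw [e3] at e
    exact mul_left_cancel (s1.trans e.symm))
  have n31 : dl (g₁ * g₂) t ≠ dl g₁ t := fun e => n2 (by rw [e3] at e; exact mul_eq_left.mp e)
  have n32 : dl (g₁ * g₂) t ≠ dl g₂ t := fun e => n1 (by rw [e3] at e; exact mul_eq_right.mp e)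
  have hinj : Function.Injective φ := by
    intro i j e
    have e' : ((φ i : (F : Subgroup P)) : P) = φ j := congrArg Subtype.val e
    fin_cases i <;> fin_cases j <;>
      simp [φ, n1, n2, n3, n12, n31, n32, n1.symm, n2.symm, n3.symm, n12.symm, n31.symm,
        n32.symm] at e' ⊢
  obtain ⟨i, hi⟩ := (hinj.bijective_of_nat_card_le (by rw [h.F_card]; simp)).2 ⟨f, hf⟩
  have hi' : ((φ i : (F : Subgroup P)) : P) = f := congrArg Subtype.val hi
  fin_cases i <;> simp [φ] at hi' <;> simp [hi']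

theorem pair_gen {g₁ g₂ : P} (h1 : g₁ ∈ R) (h2 : g₂ ∈ R) (h1T : g₁ ∉ T) (h2T : g₂ ∉ T)
    (h12 : g₁⁻¹ * g₂ ∉ T) {g : P} (hg : g ∈ R) :
    g ∈ T ∨ g₁⁻¹ * g ∈ T ∨ g₂⁻¹ * g ∈ T ∨ (g₁ * g₂)⁻¹ * g ∈ T := by
  obtain ⟨b, hb, hne⟩ : ∃ b ∈ B, b ≠ 1 := by
    by_contra hh
    simp only [not_exists, not_and, not_not] at hh
    have : B = ⊥ := (Subgroup.eq_bot_iff_forall B).mpr hh
    have := h.card
    simp_all
  have hC : ∀ x : P, Commute x b → x ∈ T := h.cent b hb hne
  rcases h.pair_cover h1 h2 h1T h2T h12 (h.le hb) hC _ (h.dl_mem hg (h.le hb)) with e | e | e | e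
  · left
    simpa using h.dl_inj (h.le hb) hC (g := 1) (g' := g)
      (by rw [e]; simp [dl, h.tsq b (h.le hb)])
  · exact Or.inr (Or.inl (h.dl_inj (h.le hb) hC e.symm))
  · exact Or.inr (Or.inr (Or.inl (h.dl_inj (h.le hb) hC e.symm)))
  · exact Or.inr (Or.inr (Or.inr (h.dl_inj (h.le hb) hC e.symm)))

end Ctx

/-- The element `w` together with a second one independent of it modulo `T`. -/
structure Full (T B : Subgroup P) (w g₁ : P) : Prop extends Ctx T B w where
  g₁_mem : g₁ ∈ stabF T w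
  g₁_not : g₁ ∉ T
  indep : w⁻¹ * g₁ ∉ T

namespace Full

variable {T B : Subgroup P} {w g₁ : P} (h : Full T B w g₁)
include h

local notation "F" => Fx T w
local notation "R" => stabF T w

/-- Every element of `T` outside `F` is conjugate to one of `B`, hence has centraliser in `T`. -/
theorem orbit {b : P} (hb : b ∈ B) (hne : b ≠ 1) {f : P} (hf : f ∈ F) :
    ∃ g ∈ R, dl g b = f := by
  rcases h.toCtx.pair_cover h.toCtx.w_mem h.g₁_mem h.invo.2.1 h.g₁_not h.indep (h.le hb)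
      (h.cent b hb hne) f hf with e | e | e | e
  · exact ⟨1, (R).one_mem, by rw [e]; simp [dl, h.tsq b (h.le hb)]⟩
  · exact ⟨w, h.toCtx.w_mem, e.symm⟩
  · exact ⟨g₁, h.g₁_mem, e.symm⟩
  · exact ⟨w * g₁, (R).mul_mem h.toCtx.w_mem h.g₁_mem, e.symm⟩

theorem cent_out {t : P} (ht : t ∈ T) (htF : t ∉ F) {x : P} (hx : Commute x t) : x ∈ T := by
  obtain ⟨f, hf, b, hb, rfl⟩ := h.toData16.decomp h.invo ht
  have hne : b ≠ 1 := fun e => htF (by rwa [e, mul_one])
  obtain ⟨g, hg, e⟩ := h.orbit hb hne hf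
  have e' : g * b * g⁻¹ = f * b := by
    rw [eq_mul_of_dl (T := T) (h.tsq b (h.le hb)) e, (h.tcomm b (h.le hb) f (mem_Fx.mp hf).1).eq]
  have hc : Commute (g⁻¹ * x * g) b := by
    show g⁻¹ * x * g * b = b * (g⁻¹ * x * g)
    have e'' : x * (g * b * g⁻¹) = g * b * g⁻¹ * x := by rw [e']; exact hx.eq
    calc g⁻¹ * x * g * b = g⁻¹ * (x * (g * b * g⁻¹)) * g := by group
      _ = _ := by rw [e'']; group
  have := Invo.conj_mem hg.1 (h.cent b hb hne _ hc)
  rwa [show g * (g⁻¹ * x * g) * g⁻¹ = x by group] at this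

theorem invo_mem {u : P} (hu : Invo T u) : u ∈ R := by
  refine ⟨hu.1, Subgroup.mem_centralizer_iff.mpr fun f hf => ?_⟩
  have hsub : Fx T u ≤ F := fun t ht => by
    by_contra htF
    exact hu.2.1 (h.cent_out (mem_Fx.mp ht).1 htF (mem_Fx.mp ht).2.symm)
  have e := Subgroup.eq_of_le_of_card_ge hsub
    (by rw [(h.toData16.fix_data hu).1, h.toCtx.F_card])
  exact (mem_Fx.mp (e ▸ hf)).2.eq

theorem conj_F {g : P} (hg : g ∈ Subgroup.normalizer (T : Set P)) {f : P} (hf : f ∈ F) :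
    g * f * g⁻¹ ∈ F := by
  have hgn : ∀ t ∈ T, g⁻¹ * t * g ∈ T := fun t ht =>
    (Subgroup.mem_normalizer_iff''.mp hg t).mp ht
  have hi : Invo T (g * w * g⁻¹) := by
    refine ⟨Subgroup.mul_mem _ (Subgroup.mul_mem _ hg h.invo.1) (Subgroup.inv_mem _ hg),
      fun e => h.invo.2.1 ?_, ?_⟩
    · have := hgn _ e
      rwa [show g⁻¹ * (g * w * g⁻¹) * g = w by group] at this
    · rw [show g * w * g⁻¹ * (g * w * g⁻¹) = g * (w * w) * g⁻¹ by group]
      exact Invo.conj_mem hg h.invo.2.2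
  have hmem := h.invo_mem hi
  have e := h.toCtx.Fx_eq hmem hi.2.1 hi.2.2
  rw [← e]
  refine mem_Fx.mpr ⟨Invo.conj_mem hg (mem_Fx.mp hf).1, ?_⟩
  show g * f * g⁻¹ * (g * w * g⁻¹) = g * w * g⁻¹ * (g * f * g⁻¹)
  calc g * f * g⁻¹ * (g * w * g⁻¹) = g * (f * w) * g⁻¹ := by group
    _ = _ := by rw [(mem_Fx.mp hf).2.eq]; group

theorem conj_R {u g : P} (hu : u ∈ Subgroup.normalizer (T : Set P)) (hg : g ∈ R) :
    u * g * u⁻¹ ∈ R := by
  refine ⟨Subgroup.mul_mem _ (Subgroup.mul_mem _ hu hg.1) (Subgroup.inv_mem _ hu),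
    Subgroup.mem_centralizer_iff.mpr fun f hf => ?_⟩
  have hf' : u⁻¹ * f * u ∈ F := by
    have := h.conj_F (Subgroup.inv_mem _ hu) hf
    rwa [inv_inv] at this
  have e := Subgroup.mem_centralizer_iff.mp hg.2 _ hf'
  calc f * (u * g * u⁻¹) = u * (u⁻¹ * f * u * g) * u⁻¹ := by group
    _ = _ := by rw [e]; group

/-- The normaliser of `T` is `R`. -/
theorem normalizer_eq : Subgroup.normalizer (T : Set P) ≤ R := by
  by_contra hle
  obtain ⟨u, hu, huR, hu2⟩ := exists_sq_mem h.two hle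
  have hh : u * u ∉ T := fun e => huR (h.invo_mem ⟨hu, fun e' => huR (h.toCtx.T_le e'), e⟩)
  obtain ⟨g, hg, hgT, hgh⟩ : ∃ g ∈ R, g ∉ T ∧ (u * u)⁻¹ * g ∉ T := by
    by_cases hwh : (u * u)⁻¹ * w ∈ T
    · refine ⟨g₁, h.g₁_mem, h.g₁_not, fun e => h.indep ?_⟩
      have := T.mul_mem (T.inv_mem hwh) e
      rwa [show ((u * u)⁻¹ * w)⁻¹ * ((u * u)⁻¹ * g₁) = w⁻¹ * g₁ by group] at this
    · exact ⟨w, h.toCtx.w_mem, h.invo.2.1, hwh⟩
  have hg' := h.conj_R hu hg
  have hun : ∀ t ∈ T, u⁻¹ * t * u ∈ T := fun t ht =>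
    (Subgroup.mem_normalizer_iff''.mp hu t).mp ht
  rcases h.toCtx.pair_gen hu2 hg hh hgT hgh hg' with e | e | e | e
  · refine hgT ?_
    have := hun _ e
    rwa [show u⁻¹ * (u * g * u⁻¹) * u = g by group] at this
  · refine hgh ?_
    have := hun _ e
    rwa [show u⁻¹ * ((u * u)⁻¹ * (u * g * u⁻¹)) * u = (u * u)⁻¹ * g by group] at this
  · -- `u` centralises `F`
    have hh' : ∀ t ∈ T, dl (u * u) t ∈ F := fun t ht => h.toCtx.dl_mem hu2 ht
    obtain ⟨t, ht, htF, hd⟩ := h.toCtx.exists_fixed hu hh'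
    have hut : u * t * u⁻¹ = t * dl u t := eq_mul_of_dl (T := T) (h.tsq t ht) rfl
    have hfixed : ∀ k ∈ R, k⁻¹ * (u * k * u⁻¹) ∈ T → u * dl k t * u⁻¹ = dl k t := by
      intro k hk hkk
      have e1 : u * dl k t * u⁻¹ = dl (u * k * u⁻¹) (u * t * u⁻¹) := by unfold dl; group
      have e3 : dl k (dl u t) = 1 := by
        show dl u t * (k * dl u t * k⁻¹) = 1
        rw [(Subgroup.mem_centralizer_iff.mp hk.2 _ hd).symm, mul_inv_cancel_right]
        exact h.tsq _ (mem_Fx.mp hd).1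
      rw [e1, show u * k * u⁻¹ = k * (k⁻¹ * (u * k * u⁻¹)) by group,
        h.toData16.dl_mul_left hk.1 (Invo.conj_mem hu ht) hkk, hut,
        h.toData16.dl_mul hk.1 ht (mem_Fx.mp hd).1, e3, mul_one]
    have hC : ∀ x : P, Commute x t → x ∈ T := fun x hx => h.cent_out ht htF hx
    have hfix1 := hfixed _ hu2 (by
      rw [show (u * u)⁻¹ * (u * (u * u) * u⁻¹) = 1 by group]; exact T.one_mem)
    have hfix2 := hfixed _ hg e
    refine huR ⟨hu, Subgroup.mem_centralizer_iff.mpr fun f hf => ?_⟩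
    have hcom : ∀ {a : P}, u * a * u⁻¹ = a → a * u = u * a := fun {a} ha =>
      (mul_inv_eq_iff_eq_mul.mp ha).symm
    rcases h.toCtx.pair_cover hu2 hg hh hgT hgh ht hC f hf with rfl | rfl | rfl | rfl
    · simp
    · exact hcom hfix1
    · exact hcom hfix2
    · rw [h.toCtx.dl_comp hu2 hg ht]
      exact ((Commute.mul_left (hcom hfix1) (hcom hfix2) : Commute _ u)).eq
  · -- `u * g` induces an involution outside `R`
    have hug : Invo T (u * g) := by
      refine ⟨Subgroup.mul_mem _ hu hg.1, fun e' => huR ?_, ?_⟩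
      · have := (R).mul_mem (h.toCtx.T_le e') ((R).inv_mem hg)
        rwa [mul_inv_cancel_right] at this
      · have hk := h.toCtx.sq_mem ((R).mul_mem hu2 hg)
        set s := ((u * u) * g)⁻¹ * (u * g * u⁻¹) with hs
        have e1 : (u * g) * (u * g) = (u * g * u⁻¹) * ((u * u) * g) := by group
        have e2 : (u * g * u⁻¹) * ((u * u) * g) =
            ((u * u) * g) * ((u * u) * g) * (((u * u) * g)⁻¹ * s * ((u * u) * g)) := by
          rw [hs]; group
        rw [e1, e2]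
        exact T.mul_mem hk ((Subgroup.mem_normalizer_iff''.mp ((R).mul_mem hu2 hg).1 s).mp e)
    refine huR ?_
    have := (R).mul_mem (h.invo_mem hug) ((R).inv_mem hg)
    rwa [mul_inv_cancel_right] at this

end Full

end CfsgLib.TwoRank.FourCent
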