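import Cfsg.Agent.Lib.TwoRank.FourCent.Sixteen
import Cfsg.Agent.S1234

/-!
# The normaliser of `T` is small
-/

set_option autoImplicit false
set_option linter.unusedSectionVars false
set_option linter.style.haveILetI false

namespace CfsgLib.TwoRank.FourCent

universe u

theorem exists_normalizer_mem {P : Type*} [Group P] [Finite P] (hP : IsPGroup 2 P)
    {H C : Subgroup P} (hHC : H ≤ C) (hlt : ¬ C ≤ H) :
    ∃ g ∈ C, g ∉ H ∧ g ∈ Subgroup.normalizer (H : Set P) := by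
  haveI : Fact (Nat.Prime 2) := ⟨Nat.prime_two⟩
  have := (hP.to_subgroup C).isNilpotent
  have hne : H.subgroupOf C ≠ ⊤ := fun e => hlt (Subgroup.subgroupOf_eq_top.mp e)
  obtain ⟨g, hg, hgH⟩ := SetLike.exists_of_lt
    (Group.normalizerCondition_of_isNilpotent (H.subgroupOf C) (lt_top_iff_ne_top.mpr hne))
  refine ⟨g, g.2, fun e => hgH e, Subgroup.mem_normalizer_iff.mpr fun x => ⟨fun hx => ?_, fun hx => ?_⟩⟩
  · exact (Subgroup.mem_normalizer_iff.mp hg ⟨x, hHC hx⟩).mp hx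
  · have hx' : x ∈ C := by
      have := C.mul_mem (C.mul_mem (C.inv_mem g.2) (hHC hx)) g.2
      rwa [show (g : P)⁻¹ * (g * x * (g : P)⁻¹) * g = x by group] at this
    exact (Subgroup.mem_normalizer_iff.mp hg ⟨x, hx'⟩).mpr hx

namespace Ctx

variable {P : Type u} [Group P] [Finite P] {T B : Subgroup P} {w : P} (h : Ctx T B w)
include h

theorem sectional_small (hsmall : ∀ g ∈ stabF T w, g ∈ T ∨ w⁻¹ * g ∈ T) :
    Cfsg.SectionalPRankLE 2 4 P := by
  have hwn : ∀ a ∈ T, w * a * w⁻¹ ∈ T := fun a ha => Invo.conj_mem h.invo.1 ha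
  obtain ⟨t0, ht0, hs⟩ := h.toData16.exists_involution h.invo
  set s := w * t0 with hs_def
  have hsR : s ∈ stabF T w := (stabF T w).mul_mem h.w_mem (h.T_le ht0)
  have hsT : s ∉ T := fun e => h.invo.2.1 ((T.mul_mem_cancel_right ht0).mp e)
  have hcard : Nat.card (stabF T w : Subgroup P) = 32 := by
    refine le_antisymm ((CfsgLib.TwoRank.card_le_two_mul_of_mul_mem _ T
      fun q hq hqT r hr hrT => ?_).trans (by rw [h.card16])) ?_
    · obtain ⟨a, ha, rfl⟩ : ∃ a ∈ T, q = w * a :=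
        ⟨w⁻¹ * q, (hsmall q hq).resolve_left hqT, by group⟩
      obtain ⟨b, hb, rfl⟩ : ∃ b ∈ T, r = w * b :=
        ⟨w⁻¹ * r, (hsmall r hr).resolve_left hrT, by group⟩
      rw [show w * a * (w * b) = (w * a * w⁻¹) * (w * w) * b by group]
      exact T.mul_mem (T.mul_mem (hwn a ha) h.invo.2.2) hb
    · have hlt : T < stabF T w := lt_of_le_of_ne h.T_le fun e => h.invo.2.1 (e ▸ h.w_mem)
      obtain ⟨k, hk⟩ := Subgroup.card_dvd_of_le h.T_le
      have h1 := Set.Finite.card_lt_card (Set.toFinite _) (SetLike.coe_ssubset_coe.mpr hlt)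
      simp only [SetLike.coe_sort_coe] at h1
      rw [hk, h.card16] at h1 ⊢
      omega
  have hfix : (T ⊓ Subgroup.centralizer ({s} : Set P)) = Fx T w := by
    ext f
    constructor
    · intro hf
      have hf' := mem_Fx.mp hf
      refine mem_Fx.mpr ⟨hf'.1, ?_⟩
      have := hf'.2.mul_right (h.tcomm f hf'.1 t0 ht0).inv_right
      rwa [hs_def, mul_inv_cancel_right] at this
    · intro hf
      exact mem_Fx.mpr ⟨(mem_Fx.mp hf).1, (mem_Fx.mp hf).2.mul_right
        (h.tcomm f (mem_Fx.mp hf).1 t0 ht0)⟩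
  have hcenter : ((Subgroup.center ↥(stabF T w)).map (stabF T w).subtype : Subgroup P) = Fx T w := by
    refine le_antisymm ?_ fun f hf => ⟨⟨f, h.T_le (mem_Fx.mp hf).1⟩,
      Subgroup.mem_center_iff.mpr fun g => Subtype.ext
        (Subgroup.mem_centralizer_iff.mp g.2.2 f hf).symm, rfl⟩
    rintro _ ⟨z, hz, rfl⟩
    have hc : ∀ g ∈ stabF T w, Commute g (z : P) := fun g hg =>
      congrArg Subtype.val (Subgroup.mem_center_iff.mp hz ⟨g, hg⟩)
    exact mem_Fx.mpr ⟨h.toData16.selfCent fun t ht => (hc t (h.T_le ht)).symm,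
      (hc w h.w_mem).symm⟩
  refine Cfsg.Agent.S1234.result h.two (stabF T w) T h.T_le
    ⟨⟨⟨fun a b => Subtype.ext (h.tcomm a a.2 b b.2).eq⟩⟩,
      fun a ha => by rw [pow_two]; exact h.tsq a ha⟩
    h.card16 hcard s hsR hsT (orderOf_eq_prime (by rw [pow_two]; exact hs)
      fun e => hsT (e ▸ T.one_mem)) (by rw [hfix]; exact h.F_card) ?_
  rw [hcenter]
  refine le_antisymm ?_ inf_le_right
  by_contra hle
  obtain ⟨g, hgC, hgR, hgN⟩ := exists_normalizer_mem h.two inf_le_right hle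
  have hconj : ∀ t ∈ T, g * t * g⁻¹ ∈ stabF T w := fun t ht =>
    (Subgroup.mem_normalizer_iff.mp hgN t).mp (h.T_le ht)
  by_cases hall : ∀ t ∈ T, g * t * g⁻¹ ∈ T
  · refine hgR ⟨?_, hgC⟩
    exact CfsgLib.TwoRank.FourCent.mem_normalizer_of_conj hall
  simp only [not_forall] at hall
  obtain ⟨t1, ht1, hx⟩ := hall
  -- every element of `T` lies in `F ∪ t1 F`
  have hFg : ∀ f ∈ Fx T w, g⁻¹ * f * g = f := fun f hf => by
    rw [mul_assoc, (Subgroup.mem_centralizer_iff.mp hgC f hf), ← mul_assoc, inv_mul_cancel, one_mul]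
  have hxF : ∀ y ∈ T, Commute y (g * t1 * g⁻¹) → y ∈ Fx T w := by
    intro y hy hc
    obtain ⟨c, hc', e⟩ : ∃ c ∈ T, g * t1 * g⁻¹ = w * c :=
      ⟨w⁻¹ * (g * t1 * g⁻¹), (hsmall _ (hconj t1 ht1)).resolve_left hx, by group⟩
    rw [e] at hc
    have := hc.mul_right (h.tcomm y hy c hc').inv_right
    rw [mul_inv_cancel_right] at this
    exact mem_Fx.mpr ⟨hy, this⟩
  have hcov : ∀ t ∈ T, t ∈ Fx T w ∨ t1⁻¹ * t ∈ Fx T w := by
    intro t ht
    have hcc : Commute (g * t * g⁻¹) (g * t1 * g⁻¹) := by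
      show g * t * g⁻¹ * (g * t1 * g⁻¹) = g * t1 * g⁻¹ * (g * t * g⁻¹)
      calc g * t * g⁻¹ * (g * t1 * g⁻¹) = g * (t * t1) * g⁻¹ := by group
        _ = _ := by rw [(h.tcomm t ht t1 ht1).eq]; group
    rcases hsmall _ (hconj t ht) with e | e
    · left
      have := hxF _ e hcc
      rw [← hFg _ this] at this
      rwa [show g⁻¹ * (g * t * g⁻¹) * g = t by group] at this
    · right
      have e1 := (hsmall _ (hconj t1 ht1)).resolve_left hx
      have e2 := T.mul_mem (T.inv_mem e1) e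
      rw [show (w⁻¹ * (g * t1 * g⁻¹))⁻¹ * (w⁻¹ * (g * t * g⁻¹))
        = (g * t1 * g⁻¹)⁻¹ * (g * t * g⁻¹) by group] at e2
      have := hxF _ e2 (((Commute.refl _).inv_left).mul_left hcc)
      rw [← hFg _ this] at this
      rwa [show g⁻¹ * ((g * t1 * g⁻¹)⁻¹ * (g * t * g⁻¹)) * g = t1⁻¹ * t by group] at this
  have hb := CfsgLib.TwoRank.card_le_two_mul_of_mul_mem T (Fx T w) fun q hq hqF r hr hrF => ?_
  · rw [h.card16, h.F_card] at hb
    omega
  · have e1 := (hcov q hq).resolve_left hqF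
    have e2 := (hcov r hr).resolve_left hrF
    have := (Fx T w).mul_mem e1 e2
    rwa [show t1⁻¹ * q * (t1⁻¹ * r) = (t1⁻¹ * q * t1⁻¹) * r by group,
      (h.tcomm t1⁻¹ (T.inv_mem ht1) q hq).eq, mul_assoc q, ← mul_inv_rev,
      h.tsq t1 ht1, inv_one, mul_one] at this

end Ctx

end CfsgLib.TwoRank.FourCent
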